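import Groth.Agent.CalgC.TorShift2
import Mathlib.CategoryTheory.Limits.Constructions.EpiMono

/-!
# Naturality of dimension shifting for left derived functors

`shiftIso F hS n : L_{n+2} F S.X₃ ≅ L_{n+1} F S.X₁` (`CycA.DerShift`) is natural in `S` and in `F`; the monomorphism
`rho F hS : L_1 F S.X₃ ⟶ F S.X₁` is natural in `S` and in `F`, and is a kernel of `F.map S.f`.
-/

set_option autoImplicit false
universe v u v' u'

open CategoryTheory CategoryTheory.Limits CategoryTheory.Category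

namespace K60.DerShiftNat

open Groth.Agent.CycA.DerShift Groth.Agent.CalgC.TorShift2

section

variable {D : Type u'} [Category.{v'} D] [Abelian D]

lemma homologyMap_square {S T S' T' : ShortComplex D} (a : S ≅ S') (b : T ≅ T')
    (f : S ⟶ T) (g : S' ⟶ T') (h : f ≫ b.hom = a.hom ≫ g) :
    ShortComplex.homologyMap f ≫ (ShortComplex.homologyMapIso b).hom =
      (ShortComplex.homologyMapIso a).hom ≫ ShortComplex.homologyMap g := by
  rw [ShortComplex.homologyMapIso_hom, ShortComplex.homologyMapIso_hom,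
    ← ShortComplex.homologyMap_comp, ← ShortComplex.homologyMap_comp, h]

lemma homologySuccIso_naturality {K L : ChainComplex D ℕ} (φ : K ⟶ L) (n : ℕ) :
    HomologicalComplex.homologyMap φ (n + 1) ≫ (homologySuccIso L n).hom =
      (homologySuccIso K n).hom ≫ ShortComplex.homologyMap
        ((HomologicalComplex.shortComplexFunctor' D (ComplexShape.down ℕ) (n + 2) (n + 1) n).map φ) :=
  homologyMap_square
    ((HomologicalComplex.natIsoSc' D (ComplexShape.down ℕ) (n + 2) (n + 1) n (by simp) (by simp)).app K)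
    ((HomologicalComplex.natIsoSc' D (ComplexShape.down ℕ) (n + 2) (n + 1) n (by simp) (by simp)).app L)
    _ _ ((HomologicalComplex.natIsoSc' D (ComplexShape.down ℕ) (n + 2) (n + 1) n (by simp)
      (by simp)).hom.naturality φ)

lemma square_comp {X₁ X₂ X₃ Y₁ Y₂ Y₃ : D} (a : X₁ ⟶ X₂) (b : X₂ ⟶ X₃) (a' : Y₁ ⟶ Y₂)
    (b' : Y₂ ⟶ Y₃) (f₁ : X₁ ⟶ Y₁) (f₂ : X₂ ⟶ Y₂) (f₃ : X₃ ⟶ Y₃) (h₁ : f₁ ≫ a' = a ≫ f₂)
    (h₂ : f₂ ≫ b' = b ≫ f₃) : f₁ ≫ (a' ≫ b') = (a ≫ b) ≫ f₃ := by
  rw [reassoc_of% h₁, h₂, assoc]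

lemma square_inv {X₁ X₂ Y₁ Y₂ : D} (a : X₁ ≅ X₂) (a' : Y₁ ≅ Y₂) (f₁ : X₁ ⟶ Y₁) (f₂ : X₂ ⟶ Y₂)
    (h : f₁ ≫ a'.hom = a.hom ≫ f₂) : f₂ ≫ a'.inv = a.inv ≫ f₁ := by
  rw [Iso.comp_inv_eq, assoc, h, Iso.inv_hom_id_assoc]

end

variable {C : Type u} [Category.{v} C] [Abelian C] {D : Type u'} [Category.{v'} D] [Abelian D]
  [HasProjectiveResolutions C]

/-- Dimension shifting is natural in the short exact sequence. -/
theorem shiftIso_naturality (F : C ⥤ D) [F.Additive] {S S' : ShortComplex C}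
    (hS : S.ShortExact) (hS' : S'.ShortExact) [Projective S.X₂] [Projective S'.X₂] (φ : S ⟶ S')
    (n : ℕ) :
    (F.leftDerived (n + 2)).map φ.τ₃ ≫ (shiftIso F hS' n).hom =
      (shiftIso F hS n).hom ≫ (F.leftDerived (n + 1)).map φ.τ₁ := by
  let Q := projectiveResolution S.X₁
  let Q' := projectiveResolution S'.X₁
  let ψ : Q.complex ⟶ Q'.complex := ProjectiveResolution.lift φ.τ₁ Q Q'
  have hψ : ψ.f 0 ≫ aug Q' = aug Q ≫ φ.τ₁ := ProjectiveResolution.lift_commutes_zero _ _ _
  let Ψ := spliceMap φ Q Q' ψ hψ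
  have h1 := ProjectiveResolution.isoLeftDerivedObj_hom_naturality φ.τ₃ (splice hS Q) (splice hS' Q')
    Ψ (spliceMap_π hS hS' φ Q Q' ψ hψ) F (n + 2)
  have h2 := homologySuccIso_naturality ((F.mapHomologicalComplex (ComplexShape.down ℕ)).map Ψ) (n + 1)
  have h3 := homologySuccIso_naturality ((F.mapHomologicalComplex (ComplexShape.down ℕ)).map ψ) n
  have h4 := ProjectiveResolution.isoLeftDerivedObj_hom_naturality φ.τ₁ Q Q' ψ hψ F (n + 1)
  exact square_comp _ _ _ _ _ _ _ h1 (square_comp _ _ _ _ _ _ _ h2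
    (square_comp _ _ _ _ _ _ _ (square_inv _ _ _ _ h3) (square_inv _ _ _ _ h4)))

/-- Dimension shifting is natural in the functor. -/
theorem shiftIso_naturality_functor {F G : C ⥤ D} [F.Additive] [G.Additive] (α : F ⟶ G)
    {S : ShortComplex C} (hS : S.ShortExact) [Projective S.X₂] (n : ℕ) :
    (NatTrans.leftDerived α (n + 2)).app S.X₃ ≫ (shiftIso G hS n).hom =
      (shiftIso F hS n).hom ≫ (NatTrans.leftDerived α (n + 1)).app S.X₁ := by
  let Q := projectiveResolution S.X₁
  have h1 : (NatTrans.leftDerived α (n + 2)).app S.X₃ ≫ ((splice hS Q).isoLeftDerivedObj G (n + 2)).hom =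
      ((splice hS Q).isoLeftDerivedObj F (n + 2)).hom ≫ HomologicalComplex.homologyMap
        ((NatTrans.mapHomologicalComplex α (ComplexShape.down ℕ)).app (splice hS Q).complex) (n + 2) := by
    rw [ProjectiveResolution.leftDerived_app_eq α (splice hS Q) (n + 2)]
    simp only [assoc, Iso.inv_hom_id, comp_id]
    rfl
  have h4 : (NatTrans.leftDerived α (n + 1)).app S.X₁ ≫ (Q.isoLeftDerivedObj G (n + 1)).hom =
      (Q.isoLeftDerivedObj F (n + 1)).hom ≫ HomologicalComplex.homologyMap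
        ((NatTrans.mapHomologicalComplex α (ComplexShape.down ℕ)).app Q.complex) (n + 1) := by
    rw [ProjectiveResolution.leftDerived_app_eq α Q (n + 1)]
    simp only [assoc, Iso.inv_hom_id, comp_id]
    rfl
  have h2 := homologySuccIso_naturality
    ((NatTrans.mapHomologicalComplex α (ComplexShape.down ℕ)).app (splice hS Q).complex) (n + 1)
  have h3 := homologySuccIso_naturality
    ((NatTrans.mapHomologicalComplex α (ComplexShape.down ℕ)).app Q.complex) n
  exact square_comp _ _ _ _ _ _ _ h1 (square_comp _ _ _ _ _ _ _ h2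
    (square_comp _ _ _ _ _ _ _ (square_inv _ _ _ _ h3) (square_inv _ _ _ _ h4)))


section Rho

variable {D : Type u'} [Category.{v'} D] [Abelian D]

/-- The map from the homology of `X₁ ⟶ X₂ ⟶ X₃` to the target of a map `p : X₂ ⟶ Y` killed by `X₁`. -/
noncomputable def hrho (T : ShortComplex D) {Y : D} (p : T.X₂ ⟶ Y) (wp : T.f ≫ p = 0) :
    T.homology ⟶ Y :=
  T.homologyι ≫ T.descOpcycles p wp

@[reassoc]
lemma π_hrho (T : ShortComplex D) {Y : D} (p : T.X₂ ⟶ Y) (wp : T.f ≫ p = 0) :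
    T.homologyπ ≫ hrho T p wp = T.iCycles ≫ p := by
  rw [hrho, ShortComplex.homology_π_ι_assoc, ShortComplex.p_descOpcycles]

lemma hrho_naturality {T T' : ShortComplex D} (τ : T ⟶ T') {Y Y' : D} (p : T.X₂ ⟶ Y)
    (wp : T.f ≫ p = 0) (p' : T'.X₂ ⟶ Y') (wp' : T'.f ≫ p' = 0) (q : Y ⟶ Y')
    (h : τ.τ₂ ≫ p' = p ≫ q) :
    ShortComplex.homologyMap τ ≫ hrho T' p' wp' = hrho T p wp ≫ q := by
  rw [← cancel_epi T.homologyπ, ShortComplex.homologyπ_naturality_assoc, π_hrho, π_hrho_assoc,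
    ShortComplex.cyclesMap_i_assoc, h]

lemma isIso_descOpcycles (T : ShortComplex D) {Y : D} (p : T.X₂ ⟶ Y) [Epi p] (wp : T.f ≫ p = 0)
    (hex : (ShortComplex.mk T.f p wp).Exact) : IsIso (T.descOpcycles p wp) := by
  have hepi : Epi (ShortComplex.mk T.f p wp).g := ‹Epi p›
  let r : Y ⟶ T.opcycles := hex.gIsCokernel.desc (CokernelCofork.ofπ T.pOpcycles T.f_pOpcycles)
  have hr : p ≫ r = T.pOpcycles :=
    hex.gIsCokernel.fac (CokernelCofork.ofπ T.pOpcycles T.f_pOpcycles) WalkingParallelPair.one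
  refine ⟨r, ?_, ?_⟩
  · rw [← cancel_epi T.pOpcycles, ShortComplex.p_descOpcycles_assoc, hr, comp_id]
  · rw [← cancel_epi p, reassoc_of% hr, ShortComplex.p_descOpcycles, comp_id]

lemma mono_hrho (T : ShortComplex D) {Y : D} (p : T.X₂ ⟶ Y) [Epi p] (wp : T.f ≫ p = 0)
    (hex : (ShortComplex.mk T.f p wp).Exact) : Mono (hrho T p wp) := by
  have := isIso_descOpcycles T p wp hex
  rw [hrho]
  infer_instance

lemma hrho_comp (T : ShortComplex D) {Y : D} (p : T.X₂ ⟶ Y) (wp : T.f ≫ p = 0)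
    (ι : Y ⟶ T.X₃) (hι : p ≫ ι = T.g) : hrho T p wp ≫ ι = 0 := by
  rw [← cancel_epi T.homologyπ, π_hrho_assoc, hι, ShortComplex.iCycles_g, comp_zero]

lemma exact_hrho (T : ShortComplex D) {Y : D} (p : T.X₂ ⟶ Y) [Epi p] (wp : T.f ≫ p = 0)
    (hex : (ShortComplex.mk T.f p wp).Exact) (ι : Y ⟶ T.X₃) (hι : p ≫ ι = T.g) :
    (ShortComplex.mk (hrho T p wp) ι (hrho_comp T p wp ι hι)).Exact := by
  have := isIso_descOpcycles T p wp hex
  let e : ShortComplex.mk T.homologyι T.fromOpcycles T.homologyι_comp_fromOpcycles ≅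
      ShortComplex.mk (hrho T p wp) ι (hrho_comp T p wp ι hι) :=
    ShortComplex.isoMk (Iso.refl _) (asIso (T.descOpcycles p wp)) (Iso.refl _)
      (by simp [hrho])
      (by
        rw [← cancel_epi T.pOpcycles]
        simp [hι])
  exact (ShortComplex.exact_iff_of_iso e).1
    (ShortComplex.exact_of_f_is_kernel _ T.homologyIsKernel)

end Rho

section LOne

variable (F : C ⥤ D) [F.Additive] {S : ShortComplex C} (hS : S.ShortExact) [Projective S.X₂]

/-- The short complex computing `L_1 F S.X₃`. -/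
noncomputable abbrev T₁ (S : ShortComplex C) (Q : ProjectiveResolution S.X₁) : ShortComplex D :=
  ((HomologicalComplex.shortComplexFunctor' D (ComplexShape.down ℕ) 2 1 0).obj
    ((F.mapHomologicalComplex (ComplexShape.down ℕ)).obj (spliceComplex S Q)))

/-- The map `F Q₀ ⟶ F S.X₁`. -/
noncomputable def pmap (S : ShortComplex C) (Q : ProjectiveResolution S.X₁) :
    (T₁ F S Q).X₂ ⟶ F.obj S.X₁ := F.map (aug Q)

omit [HasProjectiveResolutions C] in
lemma wp₁ (S : ShortComplex C) (Q : ProjectiveResolution S.X₁) :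
    (T₁ F S Q).f ≫ pmap F S Q = 0 := by
  change F.map (Q.complex.d 1 0) ≫ F.map (aug Q) = 0
  rw [← F.map_comp, d_aug, F.map_zero]

/-- `F S.f` with values in the third term of `T₁`. -/
noncomputable def imap (S : ShortComplex C) (Q : ProjectiveResolution S.X₁) :
    F.obj S.X₁ ⟶ (T₁ F S Q).X₃ := F.map S.f

omit [HasProjectiveResolutions C] in
lemma hι₁ (S : ShortComplex C) (Q : ProjectiveResolution S.X₁) :
    pmap F S Q ≫ imap F S Q = (T₁ F S Q).g := by
  change F.map (aug Q) ≫ F.map S.f = F.map (aug Q ≫ S.f)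
  rw [F.map_comp]

/-- `L_1 F S.X₃` is the homology of `T₁`. -/
noncomputable def eIso : (F.leftDerived 1).obj S.X₃ ≅
    (T₁ F S (projectiveResolution S.X₁)).homology :=
  ((splice hS (projectiveResolution S.X₁)).isoLeftDerivedObj F 1) ≪≫ (homologySuccIso _ 0)

/-- The map from the homology of `T₁` to `F S.X₁`. -/
noncomputable def hr (S : ShortComplex C) (Q : ProjectiveResolution S.X₁) :
    (T₁ F S Q).homology ⟶ F.obj S.X₁ :=
  hrho (T₁ F S Q) (pmap F S Q) (wp₁ F S Q)

/-- The map `L_1 F S.X₃ ⟶ F S.X₁`. -/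
noncomputable def rho : (F.leftDerived 1).obj S.X₃ ⟶ F.obj S.X₁ :=
  (eIso F hS).hom ≫ hr F S (projectiveResolution S.X₁)

omit [HasProjectiveResolutions C] in
lemma epi_map_aug [PreservesFiniteColimits F] (S : ShortComplex C) (Q : ProjectiveResolution S.X₁) :
    Epi (pmap F S Q) := by
  have h : Epi (aug Q) := epi_aug Q
  have h1 : Epi (F.map (aug Q)) := inferInstance
  exact h1

omit [HasProjectiveResolutions C] in
lemma mono_hr [PreservesFiniteColimits F] (S : ShortComplex C) (Q : ProjectiveResolution S.X₁) :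
    Mono (hr F S Q) := by
  have h1 := epi_map_aug F S Q
  exact mono_hrho (T₁ F S Q) (pmap F S Q) (wp₁ F S Q) (exact_map_aug F Q)

omit [HasProjectiveResolutions C] in
lemma hr_comp' (S : ShortComplex C) (Q : ProjectiveResolution S.X₁) :
    hr F S Q ≫ imap F S Q = 0 :=
  hrho_comp _ _ _ (imap F S Q) (hι₁ F S Q)

omit [HasProjectiveResolutions C] in
lemma hr_comp (S : ShortComplex C) (Q : ProjectiveResolution S.X₁) :
    hr F S Q ≫ F.map S.f = 0 :=
  hr_comp' F S Q

omit [HasProjectiveResolutions C] in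
lemma exact_hr [PreservesFiniteColimits F] (S : ShortComplex C) (Q : ProjectiveResolution S.X₁) :
    (ShortComplex.mk (hr F S Q) (F.map S.f) (hr_comp F S Q)).Exact := by
  have h1 := epi_map_aug F S Q
  exact exact_hrho (T₁ F S Q) (pmap F S Q) (wp₁ F S Q) (exact_map_aug F Q) (imap F S Q)
    (hι₁ F S Q)

lemma mono_rho [PreservesFiniteColimits F] : Mono (rho F hS) := by
  have h2 := mono_hr F S (projectiveResolution S.X₁)
  rw [rho]
  infer_instance

lemma rho_comp : rho F hS ≫ F.map S.f = 0 := by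
  rw [rho, assoc, hr_comp, comp_zero]

lemma exact_rho [PreservesFiniteColimits F] :
    (ShortComplex.mk (rho F hS) (F.map S.f) (rho_comp F hS)).Exact := by
  have h2 := exact_hr F S (projectiveResolution S.X₁)
  let e : ShortComplex.mk (rho F hS) (F.map S.f) (rho_comp F hS) ≅
      ShortComplex.mk (hr F S (projectiveResolution S.X₁)) (F.map S.f)
        (hr_comp F S (projectiveResolution S.X₁)) :=
    ShortComplex.isoMk (eIso F hS) (Iso.refl _) (Iso.refl _) (by simp [rho]) (by simp)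
  exact (ShortComplex.exact_iff_of_iso e).2 h2

lemma rho_eq : rho F hS = ((splice hS (projectiveResolution S.X₁)).isoLeftDerivedObj F 1).hom ≫
    (homologySuccIso _ 0).hom ≫ hr F S (projectiveResolution S.X₁) := by
  rw [rho]
  exact assoc _ _ _

/-- `rho` is natural in the short exact sequence. -/
theorem rho_naturality {S' : ShortComplex C} (hS' : S'.ShortExact) [Projective S'.X₂] (φ : S ⟶ S') :
    (F.leftDerived 1).map φ.τ₃ ≫ rho F hS' = rho F hS ≫ F.map φ.τ₁ := by
  let Q := projectiveResolution S.X₁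
  let Q' := projectiveResolution S'.X₁
  let ψ : Q.complex ⟶ Q'.complex := ProjectiveResolution.lift φ.τ₁ Q Q'
  have hψ : ψ.f 0 ≫ aug Q' = aug Q ≫ φ.τ₁ := ProjectiveResolution.lift_commutes_zero _ _ _
  let Ψ := spliceMap φ Q Q' ψ hψ
  have h1 := ProjectiveResolution.isoLeftDerivedObj_hom_naturality φ.τ₃ (splice hS Q) (splice hS' Q')
    Ψ (spliceMap_π hS hS' φ Q Q' ψ hψ) F 1
  have h2 := homologySuccIso_naturality ((F.mapHomologicalComplex (ComplexShape.down ℕ)).map Ψ) 0
  have h3 := hrho_naturality ((HomologicalComplex.shortComplexFunctor' D (ComplexShape.down ℕ) 2 1 0).map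
    ((F.mapHomologicalComplex (ComplexShape.down ℕ)).map Ψ)) (pmap F S Q) (wp₁ F S Q)
    (pmap F S' Q') (wp₁ F S' Q') (F.map φ.τ₁) (by
      change F.map (ψ.f 0) ≫ F.map (aug Q') = F.map (aug Q) ≫ F.map φ.τ₁
      rw [← F.map_comp, hψ, F.map_comp])
  rw [rho_eq, rho_eq]
  exact square_comp _ _ _ _ _ _ _ h1 (square_comp _ _ _ _ _ _ _ h2 h3)

/-- `rho` is natural in the functor. -/
theorem rho_naturality_functor {G : C ⥤ D} [G.Additive] (α : F ⟶ G) :
    (NatTrans.leftDerived α 1).app S.X₃ ≫ rho G hS = rho F hS ≫ α.app S.X₁ := by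
  let Q := projectiveResolution S.X₁
  have h1 : (NatTrans.leftDerived α 1).app S.X₃ ≫ ((splice hS Q).isoLeftDerivedObj G 1).hom =
      ((splice hS Q).isoLeftDerivedObj F 1).hom ≫ HomologicalComplex.homologyMap
        ((NatTrans.mapHomologicalComplex α (ComplexShape.down ℕ)).app (splice hS Q).complex) 1 := by
    rw [ProjectiveResolution.leftDerived_app_eq α (splice hS Q) 1]
    simp only [assoc, Iso.inv_hom_id, comp_id]
    rfl
  have h2 := homologySuccIso_naturality
    ((NatTrans.mapHomologicalComplex α (ComplexShape.down ℕ)).app (splice hS Q).complex) 0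
  have h3 := hrho_naturality ((HomologicalComplex.shortComplexFunctor' D (ComplexShape.down ℕ) 2 1 0).map
    ((NatTrans.mapHomologicalComplex α (ComplexShape.down ℕ)).app (splice hS Q).complex))
    (pmap F S Q) (wp₁ F S Q) (pmap G S Q) (wp₁ G S Q) (α.app S.X₁) (α.naturality (aug Q)).symm
  rw [rho_eq, rho_eq]
  exact square_comp _ _ _ _ _ _ _ h1 (square_comp _ _ _ _ _ _ _ h2 h3)

end LOne

end K60.DerShiftNat
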