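import Groth.Agent.Divis.FlatExt
import Mathlib.RingTheory.Flat.Basic
import Mathlib.LinearAlgebra.TensorProduct.RightExactness

/-!
# The cokernel of a universally injective map to a flat module is flat
-/

set_option autoImplicit false
universe u

namespace K60.FlatPure

open TensorProduct Function

variable {R : Type u} [CommRing R]

/-- The cokernel of a universally injective map to a flat module is flat. -/
theorem flat_coker {L M C : Type u} [AddCommGroup L] [Module R L]
    [AddCommGroup M] [Module R M] [AddCommGroup C] [Module R C] (f : L →ₗ[R] M) (g : M →ₗ[R] C)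
    (hf : ∀ (Q : Type u) [AddCommGroup Q] [Module R Q], Injective (f.rTensor Q))
    (hfg : Exact f g) (hg : Surjective g) [Module.Flat R M] : Module.Flat R C := by
  rw [Module.Flat.iff_lTensor_injective]
  intro I _
  rw [injective_iff_map_eq_zero]
  intro x hx
  obtain ⟨y, rfl⟩ := LinearMap.rTensor_surjective I hg x
  have h1 : g.rTensor R (I.subtype.lTensor M y) = 0 := by
    rw [← LinearMap.comp_apply, LinearMap.rTensor_comp_lTensor, ← LinearMap.lTensor_comp_rTensor]
    exact hx
  obtain ⟨z, hz⟩ := (rTensor_exact R hfg hg _).1 h1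
  have h2 : I.mkQ.lTensor L z = 0 := by
    apply hf (R ⧸ I)
    rw [map_zero, ← LinearMap.comp_apply, LinearMap.rTensor_comp_lTensor,
      ← LinearMap.lTensor_comp_rTensor, LinearMap.comp_apply, hz, ← LinearMap.comp_apply,
      ← LinearMap.lTensor_comp]
    have : I.mkQ ∘ₗ I.subtype = 0 := by
      ext x
      exact (Submodule.Quotient.mk_eq_zero I).2 x.2
    rw [this]
    simp
  have hex : Exact I.subtype I.mkQ := by
    rw [LinearMap.exact_iff, Submodule.ker_mkQ, Submodule.range_subtype]
  obtain ⟨w, rfl⟩ := (lTensor_exact L hex I.mkQ_surjective z).1 h2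
  have h3 : y = f.rTensor I w := by
    apply Module.Flat.lTensor_preserves_injective_linearMap (M := M) I.subtype
      I.subtype_injective
    rw [← hz, ← LinearMap.comp_apply, LinearMap.rTensor_comp_lTensor,
      ← LinearMap.lTensor_comp_rTensor]
    rfl
  rw [h3, ← LinearMap.comp_apply, ← LinearMap.rTensor_comp]
  have : g ∘ₗ f = 0 := hfg.linearMap_comp_eq_zero
  rw [this]
  simp

end K60.FlatPure
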