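import Mathlib.Algebra.Category.ModuleCat.Projective
import Mathlib.Algebra.Category.ModuleCat.Abelian
import Mathlib.Algebra.Category.ModuleCat.ProjectiveDimension
import Mathlib.CategoryTheory.Abelian.Projective.Resolution
import Mathlib.CategoryTheory.Abelian.Projective.Dimension
import Mathlib.CategoryTheory.Abelian.Projective.Extend
import Mathlib.RingTheory.Noetherian.Basic
import Mathlib.Algebra.Module.FinitePresentation

/-!
# Resolutions of finite modules over a Noetherian ring by finite free modules
-/

set_option autoImplicit false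

universe u

open CategoryTheory CategoryTheory.Limits

namespace K60.FreeRes

variable {R : Type u} [CommRing R] [IsNoetherianRing R]

/-- A finite module, bundled. -/
structure FM (R : Type u) [CommRing R] where
  /-- the module -/
  X : ModuleCat.{u} R
  /-- finiteness -/
  fin : Module.Finite R X

omit [IsNoetherianRing R] in
/-- Every finite module `M` is a quotient of a finite free module. -/
lemma exists_cover (M : FM R) : ∃ (P : FM R) (π : P.X ⟶ M.X), Module.Free R P.X ∧ Epi π := by
  have := M.fin
  obtain ⟨P, _, _, _, _, f, hf⟩ := Module.exists_finite_presentation R M.X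
  exact ⟨⟨ModuleCat.of R P, inferInstanceAs (Module.Finite R P)⟩, ModuleCat.ofHom f,
    inferInstanceAs (Module.Free R P), (ModuleCat.epi_iff_surjective _).2 hf⟩

/-- The chosen cover. -/
noncomputable def cover (M : FM R) : FM R := (exists_cover M).choose

/-- The projection of the chosen cover. -/
noncomputable def coverπ (M : FM R) : (cover M).X ⟶ M.X := (exists_cover M).choose_spec.choose

instance free_cover (M : FM R) : Module.Free R (cover M).X :=
  (exists_cover M).choose_spec.choose_spec.1

instance (M : FM R) : Projective (cover M).X :=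
  ModuleCat.projective_of_free (Module.Free.chooseBasis R (cover M).X)

instance (M : FM R) : Epi (coverπ M) := (exists_cover M).choose_spec.choose_spec.2

/-- The syzygy. -/
noncomputable def syz (M : FM R) : FM R where
  X := kernel (coverπ M)
  fin := by
    have := (cover M).fin
    have hi : Function.Injective (kernel.ι (coverπ M)).hom :=
      (ModuleCat.mono_iff_injective _).1 inferInstance
    exact Module.Finite.of_injective (kernel.ι (coverπ M)).hom hi

/-- The inclusion of the syzygy. -/
noncomputable def syzι (M : FM R) : (syz M).X ⟶ (cover M).X := kernel.ι (coverπ M)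

instance (M : FM R) : Mono (syzι M) := inferInstanceAs (Mono (kernel.ι _))

@[reassoc (attr := simp)]
lemma syzι_coverπ (M : FM R) : syzι M ≫ coverπ M = 0 := kernel.condition _

/-- The short exact sequence of the syzygy. -/
noncomputable def ses (M : FM R) : ShortComplex (ModuleCat.{u} R) :=
  ShortComplex.mk (syzι M) (coverπ M) (syzι_coverπ M)

lemma ses_shortExact (M : FM R) : (ses M).ShortExact where
  exact := ShortComplex.exact_kernel _
  mono_f := inferInstanceAs (Mono (syzι M))
  epi_g := inferInstanceAs (Epi (coverπ M))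

/-- The iterated syzygies. -/
noncomputable def seq (M : FM R) : ℕ → FM R
  | 0 => M
  | n + 1 => syz (seq M n)

/-- The differentials of the resolution. -/
noncomputable def dd (N : FM R) : (cover (syz N)).X ⟶ (cover N).X :=
  coverπ (syz N) ≫ syzι N

lemma dd_comp (N : FM R) : dd (syz N) ≫ dd N = 0 := by
  simp [dd]

@[reassoc (attr := simp)]
lemma dd_coverπ (N : FM R) : dd N ≫ coverπ N = 0 := by
  simp [dd]

/-- The complex. -/
noncomputable def cx (M : FM R) : ChainComplex (ModuleCat.{u} R) ℕ :=
  ChainComplex.of (fun n => (cover (seq M n)).X) (fun n => dd (seq M n)) (fun n => dd_comp (seq M n))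

lemma cx_d (M : FM R) (n : ℕ) : (cx M).d (n + 1) n = dd (seq M n) :=
  ChainComplex.of_d (fun n => (cover (seq M n)).X) (fun n => dd (seq M n)) n

lemma exact_dd_coverπ (N : FM R) :
    (ShortComplex.mk (dd N) (coverπ N) (dd_coverπ N)).Exact := by
  let S₂ : ShortComplex (ModuleCat.{u} R) := ShortComplex.mk (syzι N) (coverπ N) (syzι_coverπ N)
  let S₁ : ShortComplex (ModuleCat.{u} R) := ShortComplex.mk (dd N) (coverπ N) (dd_coverπ N)
  let φ : S₁ ⟶ S₂ := { τ₁ := coverπ (syz N), τ₂ := 𝟙 _, τ₃ := 𝟙 _, comm₁₂ := by simp [S₁, S₂, dd] }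
  have : Epi φ.τ₁ := inferInstanceAs (Epi (coverπ (syz N)))
  have : IsIso φ.τ₂ := inferInstanceAs (IsIso (𝟙 _))
  have : Mono φ.τ₃ := inferInstanceAs (Mono (𝟙 _))
  exact (ShortComplex.exact_iff_of_epi_of_isIso_of_mono φ).2 (ses_shortExact N).exact

lemma exact_dd_dd (N : FM R) :
    (ShortComplex.mk (dd (syz N)) (dd N) (dd_comp N)).Exact := by
  let S₁ : ShortComplex (ModuleCat.{u} R) := ShortComplex.mk (dd (syz N)) (coverπ (syz N)) (dd_coverπ (syz N))
  let S₂ : ShortComplex (ModuleCat.{u} R) := ShortComplex.mk (dd (syz N)) (dd N) (dd_comp N)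
  let φ : S₁ ⟶ S₂ := { τ₁ := 𝟙 _, τ₂ := 𝟙 _, τ₃ := syzι N, comm₂₃ := by simp [S₁, S₂, dd] }
  have : Epi φ.τ₁ := inferInstanceAs (Epi (𝟙 _))
  have : IsIso φ.τ₂ := inferInstanceAs (IsIso (𝟙 _))
  have : Mono φ.τ₃ := inferInstanceAs (Mono (syzι _))
  exact (ShortComplex.exact_iff_of_epi_of_isIso_of_mono φ).1 (exact_dd_coverπ (syz N))

lemma cx_exactAt_succ (M : FM R) (n : ℕ) : (cx M).ExactAt (n + 1) := by
  rw [HomologicalComplex.exactAt_iff' _ (n + 1 + 1) (n + 1) n (by simp) (by simp)]
  simp only [HomologicalComplex.sc', HomologicalComplex.shortComplexFunctor', cx_d]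
  exact exact_dd_dd (seq M n)

/-- The resolution of a finite module by finite projective modules. -/
noncomputable def res (M : FM R) : ProjectiveResolution M.X where
  complex := cx M
  projective n := inferInstanceAs (Projective (cover (seq M n)).X)
  π := (ChainComplex.toSingle₀Equiv _ _).symm ⟨coverπ M, by
          rw [cx_d]
          exact dd_coverπ M⟩
  quasiIso := ⟨fun n => by
    cases n
    · rw [ChainComplex.quasiIsoAt₀_iff, ShortComplex.quasiIso_iff_of_zeros']
      · refine (ShortComplex.exact_and_epi_g_iff_of_iso ?_).2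
          ⟨exact_dd_coverπ M, inferInstanceAs (Epi (coverπ M))⟩
        exact ShortComplex.isoMk (Iso.refl _) (Iso.refl _) (Iso.refl _)
          (by simp [cx_d]; rfl) (by simp; rfl)
      all_goals rfl
    · rw [quasiIsoAt_iff_exactAt']
      · apply cx_exactAt_succ
      · apply ChainComplex.exactAt_succ_single_obj⟩

instance (M : FM R) (n : ℕ) : Module.Finite R ((res M).complex.X n) := (cover (seq M n)).fin

instance (M : FM R) (n : ℕ) : Module.Free R ((res M).complex.X n) := free_cover (seq M n)

end K60.FreeRes
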