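import Groth.Agent.CAlg.K60.DerShiftNat
import Groth.Agent.LoccohA.TorLES
import Mathlib.Algebra.Category.ModuleCat.Adjunctions
import Mathlib.Algebra.Category.ModuleCat.Projective
import Mathlib.CategoryTheory.Adjunction.FullyFaithful

/-!
# Symmetry of `Tor`, naturally in both variables

`torSymm n : Tor (ModuleCat A) n ≅ (Tor (ModuleCat A) n).flip`.
-/

set_option autoImplicit false
universe u

open CategoryTheory CategoryTheory.Limits MonoidalCategory

namespace K60.TorSymm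

open Groth.Agent.CycA.DerShift K60.DerShiftNat Groth.Agent.LoccohA.TorLES

variable {A : Type u} [CommRing A]

variable (A) in
/-- The functorial free cover. -/
noncomputable def Fr : ModuleCat.{u} A ⥤ ModuleCat.{u} A := forget (ModuleCat.{u} A) ⋙ ModuleCat.free A

variable (A) in
/-- The projection of the free cover. -/
noncomputable def cov : Fr A ⟶ 𝟭 (ModuleCat.{u} A) := (ModuleCat.adj A).counit

instance (M : ModuleCat.{u} A) : Epi ((cov A).app M) :=
  inferInstanceAs (Epi ((ModuleCat.adj A).counit.app M))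

/-- The functorial short exact sequence `0 → K M → F M → M → 0`. -/
noncomputable abbrev SS (M : ModuleCat.{u} A) : ShortComplex (ModuleCat.{u} A) :=
  ShortComplex.mk (kernel.ι ((cov A).app M)) ((cov A).app M) (kernel.condition _)

lemma hSS (M : ModuleCat.{u} A) : (SS M).ShortExact where
  exact := ShortComplex.exact_kernel _
  mono_f := inferInstanceAs (Mono (kernel.ι _))
  epi_g := inferInstanceAs (Epi ((cov A).app M))

/-- The action of `SS` on morphisms. -/
noncomputable def SSmap {M M' : ModuleCat.{u} A} (f : M ⟶ M') : SS M ⟶ SS M' where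
  τ₁ := kernel.map _ _ ((Fr A).map f) f ((cov A).naturality f).symm
  τ₂ := (Fr A).map f
  τ₃ := f
  comm₁₂ := by simp [SS]
  comm₂₃ := (cov A).naturality f

/-- The syzygy. -/
noncomputable abbrev KK (M : ModuleCat.{u} A) : ModuleCat.{u} A := (SS M).X₁

/-- The syzygy on morphisms. -/
noncomputable abbrev KKmap {M M' : ModuleCat.{u} A} (f : M ⟶ M') : KK M ⟶ KK M' := (SSmap f).τ₁

instance free_X₂ (M : ModuleCat.{u} A) : Module.Free A (SS M).X₂ :=
  inferInstanceAs (Module.Free A (M →₀ A))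

instance projective_X₂ (M : ModuleCat.{u} A) : Projective (SS M).X₂ :=
  ModuleCat.projective_of_free (Module.Free.chooseBasis A (SS M).X₂)

/-- The tensor product functor, as used in the definition of `Tor`. -/
noncomputable abbrev TL (N : ModuleCat.{u} A) : ModuleCat.{u} A ⥤ ModuleCat.{u} A :=
  (tensoringLeft (ModuleCat.{u} A)).obj N

instance (N : ModuleCat.{u} A) : PreservesFiniteColimits (TL N) :=
  inferInstanceAs (PreservesFiniteColimits (tensorLeft N))

section Left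

lemma isIso_torδ (M N : ModuleCat.{u} A) (n : ℕ) : IsIso (torδ (hSS M) N (n + 1)) := by
  have e1 := exact_map_δ (hSS M) N (n + 1)
  have e2 := exact_δ_map (hSS M) N (n + 1)
  have s1 := subsingleton_tor_of_flat (SS M).X₂ N n
  have s2 := subsingleton_tor_of_flat (SS M).X₂ N (n + 1)
  have hb : Function.Bijective (torδ (hSS M) N (n + 1)).hom := by
    constructor
    · rw [injective_iff_map_eq_zero]
      intro x hx
      obtain ⟨y, rfl⟩ := (e1 x).1 hx
      rw [Subsingleton.elim y 0, map_zero]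
    · intro x
      exact (e2 x).1 (Subsingleton.elim _ _)
  exact (ConcreteCategory.isIso_iff_bijective (torδ (hSS M) N (n + 1))).2 hb

/-- Dimension shifting in the first variable. -/
noncomputable def LI (M N : ModuleCat.{u} A) (n : ℕ) :
    ((Tor (ModuleCat.{u} A) (n + 2)).obj M).obj N ≅ ((Tor (ModuleCat.{u} A) (n + 1)).obj (KK M)).obj N :=
  have := isIso_torδ M N n
  asIso (torδ (hSS M) N (n + 1))

lemma LI_nat_left {M M' : ModuleCat.{u} A} (f : M ⟶ M') (N : ModuleCat.{u} A) (n : ℕ) :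
    ((Tor (ModuleCat.{u} A) (n + 2)).map f).app N ≫ (LI M' N n).hom =
      (LI M N n).hom ≫ ((Tor (ModuleCat.{u} A) (n + 1)).map (KKmap f)).app N :=
  torδ_naturality (hSS M) (hSS M') (SSmap f) N (n + 1)

lemma LI_nat_right (M : ModuleCat.{u} A) {N N' : ModuleCat.{u} A} (g : N ⟶ N') (n : ℕ) :
    ((Tor (ModuleCat.{u} A) (n + 2)).obj M).map g ≫ (LI M N' n).hom =
      (LI M N n).hom ≫ ((Tor (ModuleCat.{u} A) (n + 1)).obj (KK M)).map g :=
  torδ_naturality_right (hSS M) g (n + 1)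

/-- `Tor_1(M, N) → K M ⊗ N`. -/
noncomputable def l1 (M N : ModuleCat.{u} A) :
    ((Tor (ModuleCat.{u} A) 1).obj M).obj N ⟶ KK M ⊗ N :=
  torδ (hSS M) N 0 ≫ (tor0Iso (KK M) N).hom

lemma mono_l1 (M N : ModuleCat.{u} A) : Mono (l1 M N) := by
  have e1 := exact_map_δ (hSS M) N 0
  have s1 := subsingleton_tor_of_flat (SS M).X₂ N 0
  have : Mono (torδ (hSS M) N 0) := by
    rw [ModuleCat.mono_iff_injective]
    rw [injective_iff_map_eq_zero (torδ (hSS M) N 0).hom]
    intro x hx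
    obtain ⟨y, rfl⟩ := (e1 x).1 hx
    rw [Subsingleton.elim y 0, map_zero]
  rw [l1]
  infer_instance

lemma l1_comp (M N : ModuleCat.{u} A) : l1 M N ≫ ((SS M).f ▷ N) = 0 := by
  rw [l1, Category.assoc, ← tor0Iso_hom_naturality_left, ← Category.assoc]
  have e2 := exact_δ_map (hSS M) N 0
  have : torδ (hSS M) N 0 ≫ ((Tor (ModuleCat.{u} A) 0).map (SS M).f).app N = 0 := by
    ext x
    exact e2.apply_apply_eq_zero x
  rw [this, zero_comp]

lemma exact_l1 (M N : ModuleCat.{u} A) :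
    (ShortComplex.mk (l1 M N) ((SS M).f ▷ N) (l1_comp M N)).Exact := by
  rw [ShortComplex.ShortExact.moduleCat_exact_iff_function_exact]
  have e2 := exact_δ_map (hSS M) N 0
  exact (exact_iff_of_isos _ _ _ _ (Iso.refl _) (tor0Iso (KK M) N) (tor0Iso (SS M).X₂ N)
    (by rw [Iso.refl_hom, Category.id_comp]; rfl) (tor0Iso_hom_naturality_left _ _)).1 e2

lemma l1_nat_left {M M' : ModuleCat.{u} A} (f : M ⟶ M') (N : ModuleCat.{u} A) :
    ((Tor (ModuleCat.{u} A) 1).map f).app N ≫ l1 M' N = l1 M N ≫ (KKmap f ▷ N) := by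
  have h := torδ_naturality (hSS M) (hSS M') (SSmap f) N 0
  rw [l1, l1, Category.assoc, ← tor0Iso_hom_naturality_left (KKmap f) N]
  rw [← Category.assoc, ← Category.assoc]
  exact congrArg (fun t => t ≫ (tor0Iso (KK M') N).hom) h

lemma l1_nat_right (M : ModuleCat.{u} A) {N N' : ModuleCat.{u} A} (g : N ⟶ N') :
    ((Tor (ModuleCat.{u} A) 1).obj M).map g ≫ l1 M N' = l1 M N ≫ (KK M ◁ g) := by
  have h := torδ_naturality_right (hSS M) g 0
  rw [l1, l1, Category.assoc, ← tor0Iso_hom_naturality_right (KK M) g]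
  rw [← Category.assoc, ← Category.assoc]
  exact congrArg (fun t => t ≫ (tor0Iso (KK M) N').hom) h

end Left

section Right

/-- Dimension shifting in the second variable. -/
noncomputable def RI (N M : ModuleCat.{u} A) (n : ℕ) :
    ((Tor (ModuleCat.{u} A) (n + 2)).obj N).obj M ≅ ((Tor (ModuleCat.{u} A) (n + 1)).obj N).obj (KK M) :=
  shiftIso (TL N) (hSS M) n

lemma RI_nat_left {N N' : ModuleCat.{u} A} (g : N ⟶ N') (M : ModuleCat.{u} A) (n : ℕ) :
    ((Tor (ModuleCat.{u} A) (n + 2)).map g).app M ≫ (RI N' M n).hom =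
      (RI N M n).hom ≫ ((Tor (ModuleCat.{u} A) (n + 1)).map g).app (KK M) :=
  shiftIso_naturality_functor ((tensoringLeft (ModuleCat.{u} A)).map g) (hSS M) n

lemma RI_nat_right (N : ModuleCat.{u} A) {M M' : ModuleCat.{u} A} (f : M ⟶ M') (n : ℕ) :
    ((Tor (ModuleCat.{u} A) (n + 2)).obj N).map f ≫ (RI N M' n).hom =
      (RI N M n).hom ≫ ((Tor (ModuleCat.{u} A) (n + 1)).obj N).map (KKmap f) :=
  shiftIso_naturality (TL N) (hSS M) (hSS M') (SSmap f) n

/-- `Tor_1(N, M) → N ⊗ K M`. -/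
noncomputable def r1 (N M : ModuleCat.{u} A) :
    ((Tor (ModuleCat.{u} A) 1).obj N).obj M ⟶ N ⊗ KK M :=
  rho (TL N) (hSS M)

lemma mono_r1 (N M : ModuleCat.{u} A) : Mono (r1 N M) := mono_rho (TL N) (hSS M)

lemma r1_comp (N M : ModuleCat.{u} A) : r1 N M ≫ (N ◁ (SS M).f) = 0 := rho_comp (TL N) (hSS M)

lemma exact_r1 (N M : ModuleCat.{u} A) :
    (ShortComplex.mk (r1 N M) (N ◁ (SS M).f) (r1_comp N M)).Exact := exact_rho (TL N) (hSS M)

lemma r1_nat_left {N N' : ModuleCat.{u} A} (g : N ⟶ N') (M : ModuleCat.{u} A) :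
    ((Tor (ModuleCat.{u} A) 1).map g).app M ≫ r1 N' M = r1 N M ≫ (g ▷ KK M) :=
  rho_naturality_functor (TL N) (hSS M) ((tensoringLeft (ModuleCat.{u} A)).map g)

lemma r1_nat_right (N : ModuleCat.{u} A) {M M' : ModuleCat.{u} A} (f : M ⟶ M') :
    ((Tor (ModuleCat.{u} A) 1).obj N).map f ≫ r1 N M' = r1 N M ≫ (N ◁ KKmap f) :=
  rho_naturality (TL N) (hSS M) (hSS M') (SSmap f)

end Right

section Abs

variable {C : Type*} [Category* C] [Abelian C]

/-- Two kernels of the same map are isomorphic. -/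
noncomputable def kerIso {X X' Y Z : C} (f : X ⟶ Y) (g : X' ⟶ Y) (h : Y ⟶ Z) [Mono f] [Mono g]
    (wf : f ≫ h = 0) (wg : g ≫ h = 0) (hf : (ShortComplex.mk f h wf).Exact)
    (hg : (ShortComplex.mk g h wg).Exact) : X ≅ X' :=
  have : Mono (ShortComplex.mk f h wf).f := ‹Mono f›
  have : Mono (ShortComplex.mk g h wg).f := ‹Mono g›
  IsLimit.conePointUniqueUpToIso hf.fIsKernel hg.fIsKernel

lemma kerIso_hom_comp {X X' Y Z : C} (f : X ⟶ Y) (g : X' ⟶ Y) (h : Y ⟶ Z) [Mono f] [Mono g]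
    (wf : f ≫ h = 0) (wg : g ≫ h = 0) (hf : (ShortComplex.mk f h wf).Exact)
    (hg : (ShortComplex.mk g h wg).Exact) : (kerIso f g h wf wg hf hg).hom ≫ g = f := by
  have : Mono (ShortComplex.mk f h wf).f := ‹Mono f›
  have : Mono (ShortComplex.mk g h wg).f := ‹Mono g›
  exact IsLimit.conePointUniqueUpToIso_hom_comp hf.fIsKernel hg.fIsKernel WalkingParallelPair.zero

end Abs

section One

lemma l1β_comp (M N : ModuleCat.{u} A) :
    (l1 M N ≫ (β_ (KK M) N).hom) ≫ (N ◁ (SS M).f) = 0 := by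
  rw [Category.assoc, ← BraidedCategory.braiding_naturality_left, ← Category.assoc, l1_comp,
    zero_comp]

lemma exact_l1β (M N : ModuleCat.{u} A) :
    (ShortComplex.mk (l1 M N ≫ (β_ (KK M) N).hom) (N ◁ (SS M).f) (l1β_comp M N)).Exact := by
  let e : ShortComplex.mk (l1 M N) ((SS M).f ▷ N) (l1_comp M N) ≅
      ShortComplex.mk (l1 M N ≫ (β_ (KK M) N).hom) (N ◁ (SS M).f) (l1β_comp M N) :=
    ShortComplex.isoMk (Iso.refl _) (β_ (KK M) N) (β_ (SS M).X₂ N) (by simp)
      (by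
        change (β_ (KK M) N).hom ≫ (N ◁ (SS M).f) = ((SS M).f ▷ N) ≫ (β_ (SS M).X₂ N).hom
        rw [BraidedCategory.braiding_naturality_left])
  exact (ShortComplex.exact_iff_of_iso e).1 (exact_l1 M N)

/-- `Tor_1(M, N) ≅ Tor_1(N, M)`. -/
noncomputable def α₁ (M N : ModuleCat.{u} A) :
    ((Tor (ModuleCat.{u} A) 1).obj M).obj N ≅ ((Tor (ModuleCat.{u} A) 1).obj N).obj M :=
  have := mono_l1 M N
  have := mono_r1 N M
  kerIso (l1 M N ≫ (β_ (KK M) N).hom) (r1 N M) (N ◁ (SS M).f) (l1β_comp M N) (r1_comp N M)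
    (exact_l1β M N) (exact_r1 N M)

lemma α₁_hom_comp (M N : ModuleCat.{u} A) :
    (α₁ M N).hom ≫ r1 N M = l1 M N ≫ (β_ (KK M) N).hom := by
  have := mono_l1 M N
  have := mono_r1 N M
  exact kerIso_hom_comp (l1 M N ≫ (β_ (KK M) N).hom) (r1 N M) (N ◁ (SS M).f) (l1β_comp M N)
    (r1_comp N M) (exact_l1β M N) (exact_r1 N M)

lemma α₁_nat_left {M M' : ModuleCat.{u} A} (f : M ⟶ M') (N : ModuleCat.{u} A) :
    ((Tor (ModuleCat.{u} A) 1).map f).app N ≫ (α₁ M' N).hom =
      (α₁ M N).hom ≫ ((Tor (ModuleCat.{u} A) 1).obj N).map f := by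
  have := mono_r1 N M'
  rw [← cancel_mono (r1 N M'), Category.assoc, Category.assoc, α₁_hom_comp, r1_nat_right,
    ← Category.assoc, ← Category.assoc, α₁_hom_comp, l1_nat_left, Category.assoc, Category.assoc,
    BraidedCategory.braiding_naturality_left]

lemma α₁_nat_right (M : ModuleCat.{u} A) {N N' : ModuleCat.{u} A} (g : N ⟶ N') :
    ((Tor (ModuleCat.{u} A) 1).obj M).map g ≫ (α₁ M N').hom =
      (α₁ M N).hom ≫ ((Tor (ModuleCat.{u} A) 1).map g).app M := by
  have := mono_r1 N' M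
  rw [← cancel_mono (r1 N' M), Category.assoc, Category.assoc, α₁_hom_comp, r1_nat_left,
    ← Category.assoc, ← Category.assoc, α₁_hom_comp, l1_nat_right, Category.assoc, Category.assoc,
    BraidedCategory.braiding_naturality_right]

end One

section All

/-- `Tor_0(M, N) ≅ Tor_0(N, M)`. -/
noncomputable def α₀ (M N : ModuleCat.{u} A) :
    ((Tor (ModuleCat.{u} A) 0).obj M).obj N ≅ ((Tor (ModuleCat.{u} A) 0).obj N).obj M :=
  tor0Iso M N ≪≫ β_ M N ≪≫ (tor0Iso N M).symm

lemma α₀_nat_left {M M' : ModuleCat.{u} A} (f : M ⟶ M') (N : ModuleCat.{u} A) :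
    ((Tor (ModuleCat.{u} A) 0).map f).app N ≫ (α₀ M' N).hom =
      (α₀ M N).hom ≫ ((Tor (ModuleCat.{u} A) 0).obj N).map f :=
  square_comp _ _ _ _ _ _ _ (tor0Iso_hom_naturality_left f N)
    (square_comp _ _ _ _ _ _ _ (BraidedCategory.braiding_naturality_left f N)
      (square_inv _ _ _ _ (tor0Iso_hom_naturality_right N f)))

lemma α₀_nat_right (M : ModuleCat.{u} A) {N N' : ModuleCat.{u} A} (g : N ⟶ N') :
    ((Tor (ModuleCat.{u} A) 0).obj M).map g ≫ (α₀ M N').hom =
      (α₀ M N).hom ≫ ((Tor (ModuleCat.{u} A) 0).map g).app M :=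
  square_comp _ _ _ _ _ _ _ (tor0Iso_hom_naturality_right M g)
    (square_comp _ _ _ _ _ _ _ (BraidedCategory.braiding_naturality_right M g)
      (square_inv _ _ _ _ (tor0Iso_hom_naturality_left g M)))

/-- `Tor_n(M, N) ≅ Tor_n(N, M)` for `n ≥ 1`. -/
noncomputable def αs : ∀ (n : ℕ) (M N : ModuleCat.{u} A),
    ((Tor (ModuleCat.{u} A) (n + 1)).obj M).obj N ≅ ((Tor (ModuleCat.{u} A) (n + 1)).obj N).obj M
  | 0, M, N => α₁ M N
  | n + 1, M, N => LI M N n ≪≫ αs n (KK M) N ≪≫ (RI N M n).symm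

lemma αs_nat_left : ∀ (n : ℕ) {M M' : ModuleCat.{u} A} (f : M ⟶ M') (N : ModuleCat.{u} A),
    ((Tor (ModuleCat.{u} A) (n + 1)).map f).app N ≫ (αs n M' N).hom =
      (αs n M N).hom ≫ ((Tor (ModuleCat.{u} A) (n + 1)).obj N).map f
  | 0, _, _, f, N => α₁_nat_left f N
  | n + 1, _, _, f, N =>
    square_comp _ _ _ _ _ _ _ (LI_nat_left f N n)
      (square_comp _ _ _ _ _ _ _ (αs_nat_left n (KKmap f) N)
        (square_inv _ _ _ _ (RI_nat_right N f n)))

lemma αs_nat_right : ∀ (n : ℕ) (M : ModuleCat.{u} A) {N N' : ModuleCat.{u} A} (g : N ⟶ N'),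
    ((Tor (ModuleCat.{u} A) (n + 1)).obj M).map g ≫ (αs n M N').hom =
      (αs n M N).hom ≫ ((Tor (ModuleCat.{u} A) (n + 1)).map g).app M
  | 0, M, _, _, g => α₁_nat_right M g
  | n + 1, M, _, _, g =>
    square_comp _ _ _ _ _ _ _ (LI_nat_right M g n)
      (square_comp _ _ _ _ _ _ _ (αs_nat_right n (KK M) g)
        (square_inv _ _ _ _ (RI_nat_left g M n)))

/-- Symmetry of `Tor`, as an isomorphism of bifunctors. -/
noncomputable def torSymm : ∀ n : ℕ, Tor (ModuleCat.{u} A) n ≅ (Tor (ModuleCat.{u} A) n).flip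
  | 0 => NatIso.ofComponents (fun M => NatIso.ofComponents (fun N => α₀ M N)
      (fun g => α₀_nat_right M g)) (fun f => by
        ext N : 2
        exact α₀_nat_left f N)
  | n + 1 => NatIso.ofComponents (fun M => NatIso.ofComponents (fun N => αs n M N)
      (fun g => αs_nat_right n M g)) (fun f => by
        ext N : 2
        exact αs_nat_left n f N)

end All

end K60.TorSymm
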